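/- Two generating sets of the same size of an ideal generated by a regular sequence. -/
import Mathlib.RingTheory.Regular.RegularSequence
import Mathlib.RingTheory.LocalRing.RingHom.Basic
import Mathlib.RingTheory.Nakayama
import Mathlib.Tactic.LinearCombination

set_option autoImplicit false

open RingTheory.Sequence IsLocalRing
open scoped Pointwise

universe u

namespace Groth.Agent.RegSeq.SameSpan

lemma coeff {R : Type u} [CommRing R] [IsLocalRing R] : ∀ (l : List R), ∀ b ∈ Ideal.ofList l,
    b ∈ maximalIdeal R * Ideal.ofList l ∨ ∃ (a : R) (rest : List R) (u z : R),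
      l.Perm (rest ++ [a]) ∧ IsUnit u ∧ z ∈ Ideal.ofList rest ∧ b = u * a + z := by
  intro l
  induction l with
  | nil => intro b hb; left; simpa using hb
  | cons h t ih =>
    intro b hb
    rw [Ideal.ofList_cons, Submodule.mem_sup] at hb
    obtain ⟨y, hy, z, hz, rfl⟩ := hb
    obtain ⟨r, rfl⟩ := Ideal.mem_span_singleton'.1 hy
    by_cases hr : IsUnit r
    · exact Or.inr ⟨h, t, r, z, (List.perm_append_singleton h t).symm, hr, hz, rfl⟩
    · rcases ih z hz with hz' | ⟨a, rest, u, w, hp, hu, hw, rfl⟩
      · left
        refine add_mem (Ideal.mul_mem_mul ((mem_maximalIdeal r).2 hr) ?_)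
          (Ideal.mul_mono_right ?_ hz')
        · rw [Ideal.ofList_cons]; exact Ideal.mem_sup_left (Ideal.mem_span_singleton_self h)
        · rw [Ideal.ofList_cons]; exact le_sup_right
      · refine Or.inr ⟨a, h :: rest, u, r * h + w, hp.cons h, hu, ?_, by ring⟩
        rw [Ideal.ofList_cons]
        exact Submodule.add_mem_sup (Ideal.mul_mem_left _ _ (Ideal.mem_span_singleton_self h)) hw

lemma isRegular_cons_iff_quotient {R : Type u} [CommRing R] (r : R) (rs : List R) :
    IsRegular R (r :: rs) ↔ IsSMulRegular R r ∧
      IsRegular (R ⧸ Ideal.span {r}) (rs.map (Ideal.Quotient.mk (Ideal.span {r}))) := by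
  rw [isRegular_cons_iff']
  refine and_congr_right' ?_
  let e : QuotSMulTop r R ≃ₗ[R] R ⧸ Ideal.span {r} :=
    Submodule.quotEquivOfEq _ _ (by
      rw [← Submodule.ideal_span_singleton_smul, smul_eq_mul, Ideal.mul_top])
  refine e.toAddEquiv.isRegular_congr (List.forall₂_same.2 fun c _ x => ?_)
  obtain ⟨c, rfl⟩ := Ideal.Quotient.mk_surjective c
  exact e.map_smul c x

lemma main : ∀ (m : ℕ) {R : Type u} [CommRing R] [IsLocalRing R] [IsNoetherianRing R]
    (as bs : List R), bs.length = m → m ≤ as.length → IsRegular R as →
    Ideal.ofList as = Ideal.ofList bs → bs.length = as.length ∧ IsRegular R bs := by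
  intro m
  induction m with
  | zero =>
    intro R _ _ _ as bs hm _ ha hI
    rw [List.length_eq_zero_iff] at hm
    subst hm
    cases as with
    | nil => exact ⟨rfl, ha⟩
    | cons a as =>
      exfalso
      have h0 : a = 0 := by
        have : a ∈ Ideal.ofList (a :: as) := Ideal.subset_span (by simp)
        simpa [hI] using this
      have := ((isRegular_cons_iff R a as).1 ha).1
      rw [h0] at this
      exact not_subsingleton R this.subsingleton
  | succ m ih =>
    intro R _ _ _ as bs hm hle ha hI
    cases bs with
    | nil => simp at hm
    | cons b bs =>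
      simp only [List.length_cons, Nat.succ.injEq] at hm
      have hproper : Ideal.ofList as ≤ maximalIdeal R := by
        refine le_maximalIdeal fun h => ha.top_ne_smul ?_
        rw [h, Submodule.top_smul]
      have hmemI : ∀ r ∈ b :: bs, r ∈ Ideal.ofList as := fun r hr => by
        rw [hI]; exact Ideal.subset_span hr
      rcases coeff as b (hmemI b (by simp)) with hb | ⟨a, rest, u, z, hp, hu, hz, hbeq⟩
      · exfalso
        have hI' : Ideal.ofList as = Ideal.ofList bs := by
          refine le_antisymm ?_ ?_
          · apply Submodule.le_of_le_smul_of_le_jacobson_bot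
              (IsNoetherian.noetherian (Ideal.ofList as))
              (IsLocalRing.maximalIdeal_le_jacobson ⊥)
            calc Ideal.ofList as = Ideal.ofList (b :: bs) := hI
              _ ≤ Ideal.ofList bs ⊔ maximalIdeal R • Ideal.ofList as := by
                rw [Ideal.ofList_cons]
                refine sup_le ?_ le_sup_left
                rw [Ideal.span_singleton_le_iff_mem, smul_eq_mul]
                exact Ideal.mem_sup_right hb
          · rw [hI, Ideal.ofList_cons]; exact le_sup_right
        have := (ih as bs hm (by omega) ha hI').1
        omega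
      · have ha' : IsRegular R (rest ++ [a]) := IsLocalRing.isRegular_of_perm ha hp
        have hperm : Ideal.ofList as = Ideal.ofList (rest ++ [a]) :=
          congrArg Ideal.span (Set.ext fun _ => hp.mem_iff)
        have hwr : IsWeaklyRegular R (rest ++ [b]) := by
          have h' := ha'.toIsWeaklyRegular
          rw [isWeaklyRegular_append_iff, isWeaklyRegular_singleton_iff] at h' ⊢
          refine ⟨h'.1, fun x y hxy => h'.2 ?_⟩
          have hz0 : ∀ w : R ⧸ (Ideal.ofList rest • ⊤ : Submodule R R), z • w = 0 := by
            intro w
            obtain ⟨w, rfl⟩ := Submodule.Quotient.mk_surjective _ w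
            rw [← Submodule.Quotient.mk_smul, Submodule.Quotient.mk_eq_zero]
            exact Submodule.smul_mem_smul hz Submodule.mem_top
          simp only [hbeq, add_smul, hz0, add_zero, mul_smul] at hxy
          exact hu.smul_left_cancel.1 hxy
        have hmax : ∀ r ∈ rest ++ [b], r ∈ maximalIdeal R := by
          intro r hr
          apply hproper
          rcases List.mem_append.1 hr with hr | hr
          · exact Ideal.subset_span (hp.mem_iff.2 (List.mem_append_left _ hr))
          · rw [List.mem_singleton.1 hr]; exact hmemI b (by simp)
        have hreg : IsRegular R (b :: rest) :=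
          IsLocalRing.isRegular_of_perm (.of_isWeaklyRegular_of_mem_maximalIdeal R hmax hwr)
            (List.perm_append_singleton b rest)
        rw [isRegular_cons_iff_quotient] at hreg ⊢
        set q := Ideal.Quotient.mk (Ideal.span {b})
        have hne : Nontrivial (R ⧸ Ideal.span {b}) := Ideal.Quotient.nontrivial_iff.2
          fun h => (Ideal.span_singleton_eq_top.1 h |> fun hb' =>
            (mem_maximalIdeal b).1 (hmax b (by simp)) hb')
        haveI : IsLocalRing (R ⧸ Ideal.span {b}) :=
          IsLocalRing.of_surjective' q Ideal.Quotient.mk_surjective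
        haveI : IsNoetherianRing (R ⧸ Ideal.span {b}) :=
          isNoetherianRing_of_surjective R _ q Ideal.Quotient.mk_surjective
        have hqb : q b = 0 := Ideal.Quotient.eq_zero_iff_mem.2 (Ideal.mem_span_singleton_self b)
        have hlen : rest.length + 1 = as.length := by simp [hp.length_eq]
        have hI2 : Ideal.ofList (rest.map q) = Ideal.ofList (bs.map q) := by
          have e1 : Ideal.map q (Ideal.ofList as) = Ideal.ofList (bs.map q) := by
            rw [hI, Ideal.ofList_cons, Ideal.map_sup, ← Ideal.map_ofList, Ideal.map_span,
              Set.image_singleton, hqb]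
            simp
          have e2 : Ideal.map q (Ideal.ofList as) = Ideal.ofList (rest.map q) := by
            refine le_antisymm ?_ ?_
            · rw [hperm, Ideal.ofList_append, Ideal.map_sup, ← Ideal.map_ofList]
              refine sup_le le_rfl ?_
              rw [Ideal.ofList_singleton, Ideal.map_span, Set.image_singleton,
                Ideal.span_singleton_le_iff_mem]
              have hqa : q u * q a = - q z := by
                have := congrArg q hbeq
                rw [hqb, map_add, map_mul] at this
                linear_combination -this
              rw [← Ideal.unit_mul_mem_iff_mem _ (hu.map q), hqa]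
              exact neg_mem (Ideal.mem_map_of_mem q hz)
            · rw [hperm, Ideal.ofList_append, Ideal.map_sup, ← Ideal.map_ofList]
              exact le_sup_left
          exact e2.symm.trans e1
        obtain ⟨h1, h2⟩ := ih (rest.map q) (bs.map q) (by simpa using hm)
          (by simp; omega) hreg.2 hI2
        simp only [List.length_map] at h1
        exact ⟨by simp; omega, hreg.1, h2⟩

end Groth.Agent.RegSeq.SameSpan
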