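/- Relations of a weakly regular sequence lie in the ideal; the cotangent module is free. -/
import Mathlib.RingTheory.Regular.RegularSequence
import Mathlib.RingTheory.Ideal.Cotangent
import Mathlib.LinearAlgebra.Basis.Basic

set_option autoImplicit false

open RingTheory.Sequence

universe u

namespace Groth.Agent.RegSeq.Cotangent

variable {A : Type u} [CommRing A]

lemma ofList_ofFn {p : ℕ} (x : Fin p → A) :
    Ideal.ofList (List.ofFn x) = Ideal.span (Set.range x) := by
  rw [Ideal.ofList]; congr 1; ext a; simp [Set.mem_range]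

lemma mem_of_sum_eq_zero : ∀ {p : ℕ} (x : Fin p → A) (_ : IsWeaklyRegular A (List.ofFn x))
    (c : Fin p → A), ∑ i, c i * x i = 0 → ∀ i, c i ∈ Ideal.span (Set.range x) := by
  intro p
  induction p with
  | zero => intro x _ c _ i; exact i.elim0
  | succ p ih =>
    intro x hx c hc
    rw [List.ofFn_succ', List.concat_eq_append, isWeaklyRegular_append_iff,
      isWeaklyRegular_singleton_iff] at hx
    obtain ⟨h1, h2⟩ := hx
    rw [Fin.sum_univ_castSucc] at hc
    set x' := fun i : Fin p => x i.castSucc with hx'
    set N : Submodule A A := Ideal.ofList (List.ofFn x') • ⊤ with hN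
    have hN' : N = Ideal.span (Set.range x') := by
      rw [hN, ofList_ofFn, smul_eq_mul, Ideal.mul_top]
    have hlast : c (Fin.last p) ∈ N := by
      rw [← Submodule.Quotient.mk_eq_zero N]
      apply h2
      dsimp only
      rw [← Submodule.Quotient.mk_smul, smul_zero, Submodule.Quotient.mk_eq_zero, hN',
        smul_eq_mul]
      have : x (Fin.last p) * c (Fin.last p) = -∑ i : Fin p, c i.castSucc * x' i := by
        rw [mul_comm]; exact eq_neg_of_add_eq_zero_right hc
      rw [this]
      exact neg_mem (Ideal.sum_mem _ fun i _ => Ideal.mul_mem_left _ _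
        (Ideal.subset_span ⟨i, rfl⟩))
    rw [hN'] at hlast
    obtain ⟨e, he⟩ := Ideal.mem_span_range_iff_exists_fun.1 hlast
    have h3 := ih x' h1 (fun i => c i.castSucc + e i * x (Fin.last p)) (by
      rw [← hc, ← he, Finset.sum_mul, ← Finset.sum_add_distrib]
      exact Finset.sum_congr rfl fun i _ => by simp only [hx']; ring)
    have hle : Ideal.span (Set.range x') ≤ Ideal.span (Set.range x) :=
      Ideal.span_mono (by rintro _ ⟨i, rfl⟩; exact ⟨i.castSucc, rfl⟩)
    intro i
    induction i using Fin.lastCases with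
    | last => exact hle (he ▸ hlast)
    | cast i =>
      have := sub_mem (hle (h3 i))
        (Ideal.mul_mem_left (Ideal.span (Set.range x)) (e i) (Ideal.subset_span ⟨Fin.last p, rfl⟩))
      simpa using this

theorem exists_basis (p : ℕ) (x : Fin p → A) (hreg : IsWeaklyRegular A (List.ofFn x)) :
    ∃ b : Module.Basis (Fin p) (A ⧸ Ideal.span (Set.range x)) (Ideal.span (Set.range x)).Cotangent,
      ∀ i, b i = (Ideal.span (Set.range x)).toCotangent
        ⟨x i, Ideal.subset_span (Set.mem_range_self i)⟩ := by
  set I := Ideal.span (Set.range x) with hI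
  let v : Fin p → I := fun i => ⟨x i, Ideal.subset_span (Set.mem_range_self i)⟩
  have hsum : ∀ g : Fin p → A,
      ∑ i, (Ideal.Quotient.mk I (g i)) • I.toCotangent (v i) = I.toCotangent (∑ i, g i • v i) := by
    intro g; rw [map_sum]; exact Finset.sum_congr rfl fun i _ => by rw [map_smul]; rfl
  have hli : LinearIndependent (A ⧸ I) (fun i => I.toCotangent (v i)) := by
    rw [Fintype.linearIndependent_iff]
    intro g hg i
    choose g' hg' using fun j => Ideal.Quotient.mk_surjective (g j)
    rw [← hg', Ideal.Quotient.eq_zero_iff_mem]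
    simp only [← hg'] at hg
    rw [hsum, Ideal.toCotangent_eq_zero] at hg
    have hg2 : ∑ j, g' j * x j ∈ I * I := by
      simpa [v, pow_two] using hg
    have : ∃ d : Fin p → A, (∀ j, d j ∈ I) ∧ ∑ j, d j * x j = ∑ j, g' j * x j := by
      refine Submodule.mul_induction_on (C := fun z => ∃ d : Fin p → A, (∀ j, d j ∈ I) ∧
        ∑ j, d j * x j = z) hg2 ?_ ?_
      · intro a ha b hb
        obtain ⟨e, he⟩ := Ideal.mem_span_range_iff_exists_fun.1 hb
        refine ⟨fun j => a * e j, fun j => Ideal.mul_mem_right _ _ ha, ?_⟩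
        rw [← he, Finset.mul_sum]
        exact Finset.sum_congr rfl fun j _ => by ring
      · rintro a b ⟨d, hd, hd'⟩ ⟨e, he, he'⟩
        refine ⟨d + e, fun j => add_mem (hd j) (he j), ?_⟩
        rw [← hd', ← he', ← Finset.sum_add_distrib]
        exact Finset.sum_congr rfl fun j _ => by simp [add_mul]
    obtain ⟨d, hd, hd'⟩ := this
    have := mem_of_sum_eq_zero x hreg (g' - d) (by simp [sub_mul, hd']) i
    simpa using add_mem this (hd i)
  have hsp : ⊤ ≤ Submodule.span (A ⧸ I) (Set.range fun i => I.toCotangent (v i)) := by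
    intro z _
    obtain ⟨⟨y, hy⟩, rfl⟩ := I.toCotangent_surjective z
    obtain ⟨g, hg⟩ := Ideal.mem_span_range_iff_exists_fun.1 hy
    have : (⟨y, hy⟩ : I) = ∑ i, g i • v i := by
      apply Subtype.ext; simp [v, hg]
    rw [this, ← hsum]
    exact Submodule.sum_mem _ fun i _ => Submodule.smul_mem _ _ (Submodule.subset_span ⟨i, rfl⟩)
  exact ⟨Module.Basis.mk hli hsp, fun i => Module.Basis.mk_apply hli hsp i⟩

end Groth.Agent.RegSeq.Cotangent
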