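/- A weakly regular sequence is of linear type. -/
import Mathlib
import Groth.Agent.RegSeq.Cotangent

set_option autoImplicit false

open MvPolynomial RingTheory.Sequence

namespace Groth.Agent.RegSeq.Rees

universe u

variable {A : Type u} [CommRing A]

/-- the linear Koszul relations -/
noncomputable def K {n : ℕ} (a : Fin n → A) : Ideal (MvPolynomial (Fin n) A) :=
  Ideal.span {q | ∃ i j : Fin n, q = C (a i) * X j - C (a j) * X i}

lemma eval_eq_zero_of_mem_K {n : ℕ} (a : Fin n → A) {f : MvPolynomial (Fin n) A} (hf : f ∈ K a) :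
    eval a f = 0 := by
  refine (Ideal.span_le (I := RingHom.ker (eval a))).mpr ?_ hf
  rintro _ ⟨i, j, rfl⟩
  simp [mul_comm]

lemma K_le_map_C {n : ℕ} (a : Fin n → A) : K a ≤ Ideal.map C (Ideal.span (Set.range a)) := by
  refine Ideal.span_le.mpr ?_
  rintro _ ⟨i, j, rfl⟩
  exact sub_mem (Ideal.mul_mem_right _ _ (Ideal.mem_map_of_mem C (Ideal.subset_span ⟨i, rfl⟩)))
    (Ideal.mul_mem_right _ _ (Ideal.mem_map_of_mem C (Ideal.subset_span ⟨j, rfl⟩)))

lemma eval_monomial_mem_pow {n : ℕ} (a : Fin n → A) (m : Fin n →₀ ℕ) :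
    eval a (monomial m 1) ∈ Ideal.span (Set.range a) ^ m.degree :=
  (Ideal.mem_span_pow_iff_exists_isHomogeneous a _).mpr ⟨_, isHomogeneous_monomial 1 rfl, rfl⟩

lemma eval_mem_pow_succ {n : ℕ} (a : Fin n → A) {d : ℕ} {φ : MvPolynomial (Fin n) A}
    (hφ : φ.IsHomogeneous d) (hC : φ ∈ Ideal.map C (Ideal.span (Set.range a))) :
    eval a φ ∈ Ideal.span (Set.range a) ^ (d + 1) := by
  rw [mem_map_C_iff] at hC
  rw [φ.as_sum, map_sum]
  refine Ideal.sum_mem _ fun m hm => ?_
  have hm' : m.degree = d := by_contra fun h => MvPolynomial.mem_support_iff.mp hm (hφ.coeff_eq_zero h)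
  rw [show monomial m (coeff m φ) = C (coeff m φ) * monomial m 1 by rw [C_mul_monomial, mul_one],
    map_mul, eval_C, pow_succ']
  exact Ideal.mul_mem_mul (hC m) (hm' ▸ eval_monomial_mem_pow a m)

/-- `I^(d+1)` consists of the `∑ a_i φ_i(a)` with `φ_i` forms of degree `d` -/
lemma exists_decomp {n : ℕ} (a : Fin n → A) {d : ℕ} {y : A}
    (hy : y ∈ Ideal.span (Set.range a) ^ (d + 1)) :
    ∃ u : Fin n → MvPolynomial (Fin n) A, (∀ i, (u i).IsHomogeneous d) ∧
      y = ∑ i, a i * eval a (u i) := by
  rw [pow_succ'] at hy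
  refine Submodule.mul_induction_on hy ?_ ?_
  · intro r hr s hs
    obtain ⟨e, he⟩ := Ideal.mem_span_range_iff_exists_fun.1 hr
    obtain ⟨φ, hφ, rfl⟩ := (Ideal.mem_span_pow_iff_exists_isHomogeneous a _).mp hs
    refine ⟨fun i => C (e i) * φ, fun i => hφ.C_mul _, ?_⟩
    rw [← he, Finset.sum_mul]
    exact Finset.sum_congr rfl fun i _ => by simp only [map_mul, eval_C]; ring
  · rintro x y ⟨u, hu, rfl⟩ ⟨v, hv, rfl⟩
    exact ⟨fun i => u i + v i, fun i => (hu i).add (hv i),
      by simp [mul_add, Finset.sum_add_distrib]⟩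

lemma eq_zero_of_deg_zero {n : ℕ} (a : Fin n → A) {f : MvPolynomial (Fin n) A}
    (hf : f.IsHomogeneous 0) (h0 : eval a f = 0) : f = 0 := by
  have h := totalDegree_eq_zero_iff_eq_C.mp (Nat.le_zero.mp hf.totalDegree_le)
  rw [h] at h0 ⊢
  rw [eval_C] at h0
  rw [h0, map_zero]

lemma rename_mem_K {n : ℕ} (a : Fin (n + 1) → A) {f : MvPolynomial (Fin n) A}
    (hf : f ∈ K (fun i => a i.castSucc)) : rename Fin.castSucc f ∈ K a := by
  refine (Ideal.span_le (I := Ideal.comap (rename Fin.castSucc).toRingHom (K a))).mpr ?_ hf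
  rintro _ ⟨i, j, rfl⟩
  refine Ideal.subset_span ⟨i.castSucc, j.castSucc, ?_⟩
  simp

lemma split {n d : ℕ} {f : MvPolynomial (Fin (n + 1)) A} (hf : f.IsHomogeneous (d + 1)) :
    ∃ (g : MvPolynomial (Fin n) A) (h : MvPolynomial (Fin (n + 1)) A),
      g.IsHomogeneous (d + 1) ∧ h.IsHomogeneous d ∧
      f = rename Fin.castSucc g + X (Fin.last n) * h := by
  rw [f.as_sum]
  refine Finset.sum_induction _ (fun p => ∃ (g : MvPolynomial (Fin n) A)
    (h : MvPolynomial (Fin (n + 1)) A), g.IsHomogeneous (d + 1) ∧ h.IsHomogeneous d ∧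
      p = rename Fin.castSucc g + X (Fin.last n) * h) ?_ ?_ ?_
  · rintro _ _ ⟨g, h, hg, hh, rfl⟩ ⟨g', h', hg', hh', rfl⟩
    exact ⟨g + g', h + h', hg.add hg', hh.add hh', by rw [map_add]; ring⟩
  · exact ⟨0, 0, isHomogeneous_zero .., isHomogeneous_zero .., by simp⟩
  · intro m hm
    have hm' : m.degree = d + 1 :=
      by_contra fun h => MvPolynomial.mem_support_iff.mp hm (hf.coeff_eq_zero h)
    by_cases hl : m (Fin.last n) = 0
    · have he : Finsupp.mapDomain Fin.castSucc
          (Finsupp.comapDomain Fin.castSucc m (Fin.castSucc_injective n).injOn) = m :=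
        Finsupp.mapDomain_comapDomain _ (Fin.castSucc_injective n) _ fun i hi => by
          induction i using Fin.lastCases with
          | last => simp [hl] at hi
          | cast i => exact ⟨i, rfl⟩
      refine ⟨monomial (Finsupp.comapDomain Fin.castSucc m (Fin.castSucc_injective n).injOn)
        (coeff m f), 0, ?_, isHomogeneous_zero .., by rw [mul_zero, add_zero, rename_monomial, he]⟩
      refine isHomogeneous_monomial _ ?_
      rw [← hm']
      conv_rhs => rw [← he, Finsupp.degree_mapDomain]
    · have he : Finsupp.single (Fin.last n) 1 + (m - Finsupp.single (Fin.last n) 1) = m :=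
        add_tsub_cancel_of_le (Finsupp.single_le_iff.mpr (Nat.one_le_iff_ne_zero.mpr hl))
      refine ⟨0, monomial (m - Finsupp.single (Fin.last n) 1) (coeff m f), isHomogeneous_zero ..,
        isHomogeneous_monomial _ ?_, by
          rw [map_zero, zero_add, MvPolynomial.X, monomial_mul, he, one_mul]⟩
      have h3 := congrArg Finsupp.degree he
      rw [map_add, hm', Finsupp.degree_single] at h3
      omega

/-- a weakly regular sequence is of linear type -/
theorem mem_K : ∀ {n : ℕ} (a : Fin n → A) (_ : IsWeaklyRegular A (List.ofFn a)) (d : ℕ)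
    (f : MvPolynomial (Fin n) A), f.IsHomogeneous d → eval a f = 0 → f ∈ K a := by
  intro n
  induction n with
  | zero =>
    intro a _ d f hf h0
    have h := eq_C_of_isEmpty f
    rw [h] at h0 ⊢
    rw [eval_C] at h0
    rw [h0, map_zero]
    exact zero_mem _
  | succ n ih =>
    intro a ha d
    set a' : Fin n → A := fun i => a i.castSucc with ha'
    rw [List.ofFn_succ', List.concat_eq_append, isWeaklyRegular_append_iff,
      isWeaklyRegular_singleton_iff] at ha
    obtain ⟨h1, h2⟩ := ha
    rw [Groth.Agent.RegSeq.Cotangent.ofList_ofFn, smul_eq_mul, Ideal.mul_top] at h2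
    have hc : ∀ y, a (Fin.last n) * y ∈ Ideal.span (Set.range a') → y ∈ Ideal.span (Set.range a') := by
      intro y hy
      refine (Submodule.Quotient.mk_eq_zero _).mp (h2 ?_)
      show a (Fin.last n) • Submodule.Quotient.mk y = a (Fin.last n) • 0
      rw [smul_zero, ← Submodule.Quotient.mk_smul, Submodule.Quotient.mk_eq_zero]
      exact hy
    have nzd : ∀ (k : ℕ) (y : A), a (Fin.last n) * y ∈ Ideal.span (Set.range a') ^ k →
        y ∈ Ideal.span (Set.range a') ^ k := by
      intro k
      induction k with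
      | zero => simp
      | succ k ihk =>
        intro y hy
        obtain ⟨φ, hφ, rfl⟩ := (Ideal.mem_span_pow_iff_exists_isHomogeneous a' _).mp
          (ihk y (Ideal.pow_le_pow_right (Nat.le_succ k) hy))
        obtain ⟨u, hu, hyu⟩ := exists_decomp a' hy
        refine eval_mem_pow_succ a' hφ (mem_map_C_iff.mpr fun m => hc _ ?_)
        have hmem := K_le_map_C a' (ih a' h1 k (C (a (Fin.last n)) * φ - ∑ i, C (a' i) * u i)
          ((hφ.C_mul _).sub (IsHomogeneous.sum _ _ _ fun i _ => (hu i).C_mul _))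
          (by simp [map_sum, hyu]))
        have hsum : ∑ i, C (a' i) * u i ∈ Ideal.map C (Ideal.span (Set.range a')) :=
          Ideal.sum_mem _ fun i _ => Ideal.mul_mem_right _ _
            (Ideal.mem_map_of_mem C (Ideal.subset_span ⟨i, rfl⟩))
        have := mem_map_C_iff.mp (add_mem hmem hsum) m
        rwa [sub_add_cancel, coeff_C_mul] at this
    induction d with
    | zero => exact fun f hf h0 => (eq_zero_of_deg_zero a hf h0) ▸ zero_mem _
    | succ d ihd =>
      intro f hf h0
      obtain ⟨g, h, hg, hh, rfl⟩ := split hf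
      simp only [map_add, map_mul, eval_X, eval_rename] at h0
      have hg' : eval a' g ∈ Ideal.span (Set.range a') ^ (d + 1) :=
        (Ideal.mem_span_pow_iff_exists_isHomogeneous a' _).mpr ⟨g, hg, rfl⟩
      obtain ⟨u, hu, hhu⟩ := exists_decomp a' (nzd (d + 1) (eval a h) (by
        rw [eq_neg_of_add_eq_zero_right h0]; exact neg_mem hg'))
      have hh' : h - ∑ i, C (a' i) * rename Fin.castSucc (u i) ∈ K a :=
        ihd _ (hh.sub (IsHomogeneous.sum _ _ _ fun i _ => ((hu i).rename_isHomogeneous).C_mul _))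
          (by simp only [map_sub, map_sum, map_mul, eval_C, eval_rename]
              rw [hhu]; exact sub_self _)
      have hlin : ∀ i, (X i * u i).IsHomogeneous (d + 1) := fun i => by
        rw [add_comm]; exact (isHomogeneous_X A i).mul (hu i)
      have hG : g + C (a (Fin.last n)) * ∑ i, X i * u i ∈ K a' :=
        ih a' h1 (d + 1) _ (hg.add ((IsHomogeneous.sum _ _ _ fun i _ => hlin i).C_mul _)) (by
          simp only [map_add, map_mul, map_sum, eval_C, eval_X]
          rw [← hhu]; exact h0)
      have key : rename Fin.castSucc g + X (Fin.last n) * h =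
          rename Fin.castSucc (g + C (a (Fin.last n)) * ∑ i, X i * u i) +
          X (Fin.last n) * (h - ∑ i, C (a' i) * rename Fin.castSucc (u i)) +
          ∑ i : Fin n, (C (a i.castSucc) * X (Fin.last n) - C (a (Fin.last n)) * X i.castSucc) *
            rename Fin.castSucc (u i) := by
        simp only [map_add, map_mul, map_sum, rename_C, rename_X, sub_mul, Finset.sum_sub_distrib,
          mul_sub, Finset.mul_sum, ha']
        rw [Finset.sum_congr rfl fun i (_ : i ∈ Finset.univ) => (mul_left_comm (X (Fin.last n))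
          (C (a i.castSucc)) (rename Fin.castSucc (u i)))]
        simp only [mul_assoc]
        abel
      rw [key]
      exact add_mem (add_mem (rename_mem_K a hG) (Ideal.mul_mem_left _ _ hh'))
        (Ideal.sum_mem _ fun i _ => Ideal.mul_mem_right _ _ (Ideal.subset_span ⟨_, _, rfl⟩))

end Groth.Agent.RegSeq.Rees
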